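import Mathlib

/-!
Numbers of generators of torsion modules over a discrete valuation ring.
-/

set_option autoImplicit false
set_option linter.all false

universe u v w

open TensorProduct

namespace Groth.Agent.DvrTorsion

variable {R : Type u} [CommRing R] [IsLocalRing R]

local notation "k" => IsLocalRing.ResidueField R

theorem finrank_le_of_surjective {d : ℕ} {M : Type v} [AddCommGroup M] [Module R M]
    (f : (Fin d → R) →ₗ[R] M) (hf : Function.Surjective f) :
    Module.finrank k (k ⊗[R] M) ≤ d := by
  have h1 : Function.Surjective (f.baseChange k) := LinearMap.lTensor_surjective k hf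
  have h := LinearMap.finrank_range_le (f.baseChange k)
  rw [LinearMap.range_eq_top.2 h1, finrank_top, Module.finrank_baseChange (M' := Fin d → R), Module.finrank_fin_fun] at h
  exact h

theorem exists_surjective (M : Type v) [AddCommGroup M] [Module R M] [Module.Finite R M] :
    ∃ f : (Fin (Module.finrank k (k ⊗[R] M)) → R) →ₗ[R] M, Function.Surjective f := by
  let b := Module.finBasis k (k ⊗[R] M)
  have hs := TensorProduct.mk_surjective R M k IsLocalRing.residue_surjective
  choose v hv using fun i => hs (b i)
  refine ⟨Fintype.linearCombination R v, ?_⟩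
  rw [← LinearMap.range_eq_top, Fintype.range_linearCombination]
  exact IsLocalRing.span_eq_top_of_tmul_eq_basis v b hv

variable [IsDomain R] [IsPrincipalIdealRing R]

/-- A submodule of a finite module over a local principal ideal domain needs at most as many
generators. -/
theorem finrank_submodule_le {M : Type v} [AddCommGroup M] [Module R M] [Module.Finite R M]
    (N : Submodule R M) : Module.finrank k (k ⊗[R] N) ≤ Module.finrank k (k ⊗[R] M) := by
  obtain ⟨f, hf⟩ := exists_surjective (R := R) M
  let P := N.comap f
  obtain ⟨n, b⟩ := Submodule.basisOfPid (Pi.basisFun R (Fin (Module.finrank k (k ⊗[R] M)))) P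
  have hn : n ≤ Module.finrank k (k ⊗[R] M) := by
    have h1 : Module.finrank R P = n := by rw [Module.finrank_eq_card_basis b, Fintype.card_fin]
    have h2 := Submodule.finrank_le P
    rwa [h1, Module.finrank_fin_fun] at h2
  let g : P →ₗ[R] N := (f.comp P.subtype).codRestrict N fun x => x.2
  have hg : Function.Surjective g := fun y => by
    obtain ⟨x, hx⟩ := hf y
    exact ⟨⟨x, by simp [P, hx]⟩, Subtype.ext hx⟩
  exact (finrank_le_of_surjective (g ∘ₗ b.equivFun.symm.toLinearMap)
    (hg.comp b.equivFun.symm.surjective)).trans hn

/-- A module embedding in a power of a cyclic module needs at most that many generators. -/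
theorem finrank_le_of_injective {I : Ideal R} {M : Type v} [AddCommGroup M] [Module R M] {d : ℕ}
    (f : M →ₗ[R] (Fin d → R ⧸ I)) (hf : Function.Injective f) :
    Module.finrank k (k ⊗[R] M) ≤ d := by
  have e := LinearEquiv.ofInjective f hf
  rw [(e.baseChange R k).finrank_eq]
  refine (finrank_submodule_le _).trans ?_
  refine finrank_le_of_surjective ((Submodule.mkQ I).compLeft (Fin d)) fun y => ?_
  exact ⟨fun i => (Submodule.mkQ_surjective I (y i)).choose,
    funext fun i => (Submodule.mkQ_surjective I (y i)).choose_spec⟩

end Groth.Agent.DvrTorsion
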